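import Groth.Agent.FBase64.AmpFib.Spread
import Groth.Agent.FBase64.Cons.FibreForall
import Groth.Agent.FBase64.Cons.FibreStage
import Mathlib.Topology.NoetherianSpace

/-! The locus of ampleness on the fibres. -/

set_option autoImplicit false
set_option backward.isDefEq.respectTransparency.types false
set_option linter.style.haveILetI false
set_option maxHeartbeats 1000000

universe u

open CategoryTheory CategoryTheory.Limits AlgebraicGeometry TopologicalSpace Topology

noncomputable section

namespace Groth.Agent.FBase64.AmpFib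

variable {X Y : Scheme.{u}}

theorem lfp_of_lft (f : X ⟶ Y) [IsLocallyNoetherian Y] [LocallyOfFiniteType f] :
    LocallyOfFinitePresentation f := by
  rw [HasRingHomProperty.iff_appLE (P := @LocallyOfFinitePresentation)]
  intro U V e
  have : IsNoetherianRing Γ(Y, U.1) := IsLocallyNoetherian.component_noetherian U
  exact RingHom.FinitePresentation.of_finiteType.mp
    (LocallyOfFiniteType.finiteType_appLE (f := f) U.2 V.2 e)

/-- The points whose fibre carries an ample restriction of `L`. -/
def ampleLocus (f : X ⟶ Y) (L : X.Modules) : Set Y :=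
  {y | CohB1.IsAmple ((Scheme.Modules.pullback (f.fiberι y)).obj L)}

theorem ampleLocus_congr {f : X ⟶ Y} {L M : X.Modules} (e : L ≅ M) :
    ampleLocus f L = ampleLocus f M :=
  Set.ext fun _ => ⟨Amp73.isAmple_of_iso ((Scheme.Modules.pullback _).mapIso e),
    Amp73.isAmple_of_iso ((Scheme.Modules.pullback _).mapIso e.symm)⟩

theorem ampleLocus_preimage {X' Y' : Scheme.{u}} {f : X ⟶ Y} {f' : X' ⟶ Y'} {a : X' ⟶ X} {b : Y' ⟶ Y}
    [QuasiCompact f] (sq : IsPullback a f' f b) {L : X.Modules} (hL : PicF.IsInvertible L) :
    b ⁻¹' ampleLocus f L = ampleLocus f' ((Scheme.Modules.pullback a).obj L) :=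
  Set.ext fun y' => ⟨isAmple_fibre_baseChange sq y', isAmple_fibre_of_baseChange sq hL y'⟩

theorem isOpen_ampleLocus (f : X ⟶ Y) [IsProper f] [LocallyOfFinitePresentation f] {L : X.Modules}
    (hL : PicF.IsInvertible L) : IsOpen (ampleLocus f L) := by
  refine isOpen_iff_forall_mem_open.2 fun y hy => ?_
  obtain ⟨V, hyV, hV⟩ := near_of_isAmple_fibre f hL y hy
  refine ⟨V, fun z hz => ?_, V.2, hyV⟩
  exact isAmple_fibre_of_baseChange (isPullback_morphismRestrict f V).flip hL (⟨z, hz⟩ : (V : Scheme.{u}))
    (isAmple_fibre _ hV _)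

/-- The locus of ampleness on the fibres is locally constructible. -/
theorem isLocallyConstructible_ampleLocus (f : X ⟶ Y) [IsProper f] [LocallyOfFinitePresentation f]
    {L : X.Modules} (hL : PicF.IsInvertible L) : IsLocallyConstructible (ampleLocus f L) := by
  refine (IsLocallyConstructible.iff_of_isOpenCover (U := fun W : Y.affineOpens => W.1)
    (iSup_affineOpens_eq_top Y)).2 fun W => ?_
  haveI : IsAffine (W.1 : Scheme.{u}) := W.2
  let f' : pullback f W.1.ι ⟶ (W.1 : Scheme.{u}) := pullback.snd f W.1.ι
  let g : Spec (CommRingCat.of Γ(Y, W.1)) ⟶ (W.1 : Scheme.{u}) := W.2.isoSpec.inv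
  let f'' := pullback.snd f' g
  haveI : IsProper f'' := inferInstance
  haveI : LocallyOfFinitePresentation f'' := inferInstance
  obtain ⟨S₀, _, X₀, f₀, _, π, _, q, sq, M, hM, ⟨e⟩⟩ := exists_noetherian_model_affine _ f''
    (Amp73.isInvertible_pullback (pullback.fst f' g) (Amp73.isInvertible_pullback (pullback.fst f W.1.ι) hL))
  let T := {z : (W.1 : Scheme.{u}) | W.1.ι z ∈ ampleLocus f L}
  have hT : T = g.base '' (π.base ⁻¹' ampleLocus f₀ M) := by
    rw [show π.base ⁻¹' ampleLocus f₀ M = _ from ampleLocus_preimage sq hM, ampleLocus_congr e,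
      ← ampleLocus_preimage (IsPullback.of_hasPullback f' g) (Amp73.isInvertible_pullback _ hL),
      ← ampleLocus_preimage (IsPullback.of_hasPullback f W.1.ι) hL]
    exact (Set.image_preimage_eq _ g.surjective).symm
  have hopen : IsOpen T := (isOpen_ampleLocus f hL).preimage W.1.ι.continuous
  have hcomp : IsCompact T := by
    rw [hT]
    haveI : LocallyOfFinitePresentation f₀ := lfp_of_lft f₀
    exact ((π.isCompact_preimage (U := ⟨ampleLocus f₀ M, isOpen_ampleLocus f₀ hM⟩)
      (NoetherianSpace.isCompact _)).image g.continuous)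
  exact (hcomp.isConstructible hopen).isLocallyConstructible

/-- Relative ampleness is detected on the fibres. -/
theorem isRelAmple_iff_forall (f : X ⟶ Y) [IsProper f] [LocallyOfFinitePresentation f] {L : X.Modules}
    (hL : PicF.IsInvertible L) : RelAmple.IsRelAmple f L ↔ ∀ y, y ∈ ampleLocus f L :=
  ⟨fun h y => isAmple_fibre f h y,
    fun h => isRelAmple_of_near f fun y => near_of_isAmple_fibre f hL y (h y)⟩

theorem isLocallyConstructible_setOf_isRelAmple {S : Scheme.{u}} (f : X ⟶ Y) (g : Y ⟶ S)
    [LocallyOfFinitePresentation g] [QuasiCompact g] [QuasiSeparated g] [IsProper f]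
    [LocallyOfFinitePresentation f] {L : X.Modules} (hL : PicF.IsInvertible L) :
    IsLocallyConstructible {s : S | RelAmple.IsRelAmple (FibreStage.fmap f g (S.fromSpecResidueField s))
      ((Scheme.Modules.pullback (pullback.fst (f ≫ g) (S.fromSpecResidueField s))).obj L)} := by
  have key : IsLocallyConstructible {y : Y | g.fiberι (g y) (g.asFiber y) ∈ ampleLocus f L} := by
    simp only [Scheme.Hom.fiberι_asFiber]
    exact isLocallyConstructible_ampleLocus f hL
  convert isLocallyConstructible_forall_fiber g (fun s z => g.fiberι s z ∈ ampleLocus f L) key using 1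
  ext s
  let sq := FibreStage.isPullback_fmap f g (S.fromSpecResidueField s)
  haveI : IsProper (FibreStage.fmap f g (S.fromSpecResidueField s)) :=
    MorphismProperty.of_isPullback sq inferInstance
  haveI : LocallyOfFinitePresentation (FibreStage.fmap f g (S.fromSpecResidueField s)) :=
    MorphismProperty.of_isPullback sq inferInstance
  show RelAmple.IsRelAmple (FibreStage.fmap f g (S.fromSpecResidueField s)) _ ↔ _
  rw [isRelAmple_iff_forall _ (Amp73.isInvertible_pullback _ hL), ← ampleLocus_preimage sq hL]
  rfl

end Groth.Agent.FBase64.AmpFib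

end
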