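import Groth.Agent.FBase64.AmpFib.Vanish
import Groth.Agent.RB70.AmpleH1
import Groth.Agent.LimTop61.RelAmpleStage
import Groth.Agent.LimTop61.StalkLimit

/-! An invertible module ample on a fibre is relatively ample near it: Noetherian base. -/

set_option autoImplicit false
set_option backward.isDefEq.respectTransparency.types false
set_option linter.style.haveILetI false
set_option maxHeartbeats 1000000

universe u

open CategoryTheory CategoryTheory.Limits AlgebraicGeometry TopologicalSpace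

noncomputable section

namespace Groth.Agent.FBase64.AmpFib

/-- An invertible module which is ample on the closed fibre over a Noetherian local ring is ample. -/
theorem isAmple_over_stalk {X Y : Scheme.{u}} (f : X ⟶ Y) [IsProper f] [IsLocallyNoetherian Y]
    {L : X.Modules} (hL : PicF.IsInvertible L) (y : Y)
    (hy : CohB1.IsAmple ((Scheme.Modules.pullback (f.fiberι y)).obj L)) :
    CohB1.IsAmple ((Scheme.Modules.pullback (pullback.fst f (Y.fromSpecStalk y))).obj L) := by
  let A : Type u := Y.presheaf.stalk y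
  let XA : Scheme.{u} := pullback f (Y.fromSpecStalk y)
  letI : XA.Over (Spec (CommRingCat.of A)) := ⟨pullback.snd f (Y.fromSpecStalk y)⟩
  haveI hp : IsProper (XA ↘ Spec (CommRingCat.of A)) :=
    inferInstanceAs (IsProper (pullback.snd f (Y.fromSpecStalk y)))
  let m := IsLocalRing.maximalIdeal A
  letI : (f.fiber y).Over (Spec (CommRingCat.of (A ⧸ m))) := ⟨f.fiberToSpecResidueField y⟩
  let g : f.fiber y ⟶ XA := pullback.lift (f.fiberι y)
    (f.fiberToSpecResidueField y ≫ Spec.map (Y.residue y))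
    (by rw [Category.assoc]; exact pullback.condition)
  have hg : g ≫ pullback.fst f (Y.fromSpecStalk y) = f.fiberι y := pullback.lift_fst _ _ _
  have hsq : IsPullback g (f.fiberToSpecResidueField y) (pullback.snd f (Y.fromSpecStalk y))
      (Spec.map (Y.residue y)) := by
    refine IsPullback.of_right ?_ (pullback.lift_snd _ _ _) (IsPullback.of_hasPullback f (Y.fromSpecStalk y))
    rw [hg]
    exact IsPullback.of_hasPullback f (Y.fromSpecResidueField y)
  let L' := (Scheme.Modules.pullback (pullback.fst f (Y.fromSpecStalk y))).obj L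
  have hL' : PicF.IsInvertible L' := Amp73.isInvertible_pullback _ hL
  haveI : IsLocallyNoetherian XA := LocallyOfFiniteType.isLocallyNoetherian (XA ↘ Spec (CommRingCat.of A))
  haveI : CompactSpace XA := QuasiCompact.compactSpace_of_compactSpace (XA ↘ Spec (CommRingCat.of A))
  haveI : QuasiSeparatedSpace XA := quasiSeparatedSpace_of_quasiSeparated (XA ↘ Spec (CommRingCat.of A))
  refine RB70.isAmple_of_H1 hL' fun J ι _ hJ => ?_
  obtain ⟨n, hn⟩ := exists_vanishing (A := A) (X := XA) (m := m) (g := g)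
    (IsLocalRing.jacobson_eq_maximalIdeal _ bot_ne_top).ge hsq hL'
    (Amp73.isAmple_of_iso ((LimTop61.pullbackCompIso _ g hg).app L).symm hy) J hJ
  exact ⟨n, hn (n + 1) n.le_succ 1 le_rfl⟩

/-- Relative ampleness near a point with ample fibre, over a locally Noetherian base. -/
theorem exists_opens_isRelAmple {X Y : Scheme.{u}} (f : X ⟶ Y) [IsProper f] [IsLocallyNoetherian Y]
    {L : X.Modules} (hL : PicF.IsInvertible L) (y : Y)
    (hy : CohB1.IsAmple ((Scheme.Modules.pullback (f.fiberι y)).obj L)) :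
    ∃ V : Y.Opens, y ∈ V ∧ RelAmple.IsRelAmple (f ∣_ V) (L.restrict (f ⁻¹ᵁ V).ι) := by
  classical
  let D := LimTop61.nhdSpec Y y
  let c := LimTop61.nhdCone Y y
  let hc : IsLimit c := LimTop61.isLimitNhdCone Y y
  haveI : Nonempty (LimTop61.AffineNhd Y y) := inferInstance
  obtain ⟨i₀⟩ : Nonempty (LimTop61.AffineNhd Y y)ᵒᵖ := inferInstance
  let w := (LimTop61.nhdι Y y).app i₀
  let f₀ : pullback f w ⟶ D.obj i₀ := pullback.snd f w
  let L₀ := (Scheme.Modules.pullback (pullback.fst f w)).obj L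
  let π₀ : Spec (Y.presheaf.stalk y) ⟶ D.obj i₀ := c.π.app i₀
  have hπ : π₀ ≫ w = Y.fromSpecStalk y := LimTop61.nhdCone_π_ι Y y i₀
  let qX : pullback f (Y.fromSpecStalk y) ⟶ pullback f w :=
    pullback.lift (pullback.fst _ _) (pullback.snd _ _ ≫ π₀)
      (by rw [Category.assoc, hπ]; exact pullback.condition)
  have hX : IsPullback qX (pullback.snd f (Y.fromSpecStalk y)) f₀ π₀ := by
    refine IsPullback.of_right ?_ (pullback.lift_snd _ _ _) (IsPullback.of_hasPullback f w)
    rw [pullback.lift_fst, hπ]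
    exact IsPullback.of_hasPullback f (Y.fromSpecStalk y)
  have hamp : RelAmple.IsRelAmple (pullback.snd f (Y.fromSpecStalk y)) ((Scheme.Modules.pullback qX).obj L₀) :=
    (Amp73.isRelAmple_iff_isAmple _).2 (Amp73.isAmple_of_iso
      ((LimTop61.pullbackCompIso (pullback.fst f w) qX (pullback.lift_fst _ _ _)).app L).symm
      (isAmple_over_stalk f hL y hy))
  obtain ⟨j, φ, Xj, Yj, fj, gj, pY, pX, hYj, hXj, hj⟩ := (LimTop61.isRelAmple_iff_stage D c hc i₀ f₀
    (𝟙 _) L₀ (Amp73.isInvertible_pullback _ hL) (pullback.snd f (Y.fromSpecStalk y)) (𝟙 c.pt) (c.π.app i₀) qX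
    IsPullback.of_id_snd hX).1 hamp
  let O := OrderDual.ofDual j.unop
  refine ⟨O.1.1, O.2, ?_⟩
  haveI : IsIso gj :=
    (MorphismProperty.isomorphisms.iff _).1 (MorphismProperty.of_isPullback
      (P := MorphismProperty.isomorphisms Scheme) hYj (MorphismProperty.isomorphisms.infer_property _))
  have hO : IsAffineOpen O.1.1 := O.1.2
  let gi : D.obj j ⟶ Yj := inv gj
  have hgi : gi ≫ gj = 𝟙 _ := IsIso.inv_hom_id gj
  let b : (O.1.1 : Scheme.{u}) ⟶ Yj := hO.isoSpec.hom ≫ gi
  have hb : b ≫ pY ≫ w = O.1.1.ι := by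
    have hpY : pY = gj ≫ D.map φ := (Category.comp_id pY).symm.trans hYj.w
    show (hO.isoSpec.hom ≫ gi) ≫ pY ≫ w = _
    have h2 : gi ≫ pY ≫ w = D.map φ ≫ w := by rw [hpY, Category.assoc, reassoc_of% hgi]
    refine (Category.assoc _ _ _).trans ((congrArg (hO.isoSpec.hom ≫ ·) h2).trans ?_)
    show hO.isoSpec.hom ≫ D.map φ ≫ (LimTop61.nhdι Y y).app i₀ = _
    exact (congrArg (hO.isoSpec.hom ≫ ·) (((LimTop61.nhdι Y y).naturality φ).trans (Category.comp_id _))).trans
      hO.isoSpec_hom_fromSpec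
  have big : IsPullback (pX ≫ pullback.fst f w) fj f (pY ≫ w) :=
    hXj.paste_horiz (IsPullback.of_hasPullback f w)
  let a : (f ⁻¹ᵁ O.1.1 : Scheme.{u}) ⟶ Xj := big.lift (f ⁻¹ᵁ O.1.1).ι ((f ∣_ O.1.1) ≫ b)
    (by rw [Category.assoc, hb, morphismRestrict_ι])
  have ha : a ≫ pX ≫ pullback.fst f w = (f ⁻¹ᵁ O.1.1).ι := big.lift_fst _ _ _
  have sq : IsPullback a (f ∣_ O.1.1) fj b := by
    refine IsPullback.of_right ?_ (big.lift_snd _ _ _) big
    rw [ha, hb]
    exact (isPullback_morphismRestrict f O.1.1).flip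
  refine Amp73.isRelAmple_of_iso ?_ (LimTop61.isRelAmple_of_isPullback sq hj)
  exact (Scheme.Modules.pullback a).mapIso ((LimTop61.pullbackCompIso (pullback.fst f w) pX rfl).app L) ≪≫
    (LimTop61.pullbackCompIso (pX ≫ pullback.fst f w) a ha).app L ≪≫
    ((Scheme.Modules.restrictFunctorIsoPullback _).app L).symm

end Groth.Agent.FBase64.AmpFib

end
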