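import Groth.Agent.FBase64.AmpFib.Near
import Groth.Agent.LimTop61.FgSubalgLimit
import Groth.Agent.PicLim95.Basic
import Groth.Agent.Hens22.ProperModel
import Groth.Agent.Desc59.AmpleDesc

/-! An invertible module ample on a fibre is relatively ample near it: finite presentation. -/

set_option autoImplicit false
set_option backward.isDefEq.respectTransparency.types false
set_option linter.style.haveILetI false
set_option maxHeartbeats 1000000

universe u

open CategoryTheory CategoryTheory.Limits AlgebraicGeometry TopologicalSpace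

noncomputable section

namespace Groth.Agent.FBase64.AmpFib

/-- Relative ampleness passes between two base changes along a map of the bases. -/
theorem isRelAmple_of_factor {X Y X₁ Y₁ X₂ Y₂ : Scheme.{u}} {f : X ⟶ Y} {a₁ : X₁ ⟶ X} {f₁ : X₁ ⟶ Y₁}
    {b₁ : Y₁ ⟶ Y} (sq₁ : IsPullback a₁ f₁ f b₁) {a₂ : X₂ ⟶ X} {f₂ : X₂ ⟶ Y₂} {b₂ : Y₂ ⟶ Y}
    (sq₂ : IsPullback a₂ f₂ f b₂) (e : Y₂ ⟶ Y₁) (he : e ≫ b₁ = b₂) {L : X.Modules}
    (h : RelAmple.IsRelAmple f₁ ((Scheme.Modules.pullback a₁).obj L)) :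
    RelAmple.IsRelAmple f₂ ((Scheme.Modules.pullback a₂).obj L) := by
  let t : X₂ ⟶ X₁ := sq₁.lift a₂ (f₂ ≫ e) (by rw [Category.assoc, he]; exact sq₂.w)
  have ht : t ≫ a₁ = a₂ := sq₁.lift_fst _ _ _
  have sq : IsPullback t f₂ f₁ e := IsPullback.of_right (by rw [ht, he]; exact sq₂) (sq₁.lift_snd _ _ _) sq₁
  exact Amp73.isRelAmple_of_iso ((LimTop61.pullbackCompIso a₁ t ht).app L)
    (LimTop61.isRelAmple_of_isPullback sq h)

/-- `L` is relatively ample over some neighbourhood of `y`. -/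
def Near {X Y : Scheme.{u}} (f : X ⟶ Y) (L : X.Modules) (y : Y) : Prop :=
  ∃ V : Y.Opens, y ∈ V ∧
    RelAmple.IsRelAmple (f ∣_ V) ((Scheme.Modules.pullback (f ⁻¹ᵁ V).ι).obj L)

theorem near_iff {X Y : Scheme.{u}} (f : X ⟶ Y) (L : X.Modules) (y : Y) :
    Near f L y ↔ ∃ V : Y.Opens, y ∈ V ∧ RelAmple.IsRelAmple (f ∣_ V) (L.restrict (f ⁻¹ᵁ V).ι) :=
  exists_congr fun V => and_congr_right fun _ =>
    ⟨Amp73.isRelAmple_of_iso ((Scheme.Modules.restrictFunctorIsoPullback _).app L).symm,
      Amp73.isRelAmple_of_iso ((Scheme.Modules.restrictFunctorIsoPullback _).app L)⟩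

theorem Near.of_iso {X Y : Scheme.{u}} {f : X ⟶ Y} {L M : X.Modules} {y : Y} (h : Near f L y) (e : L ≅ M) :
    Near f M y := by
  obtain ⟨V, hy, hV⟩ := h
  exact ⟨V, hy, Amp73.isRelAmple_of_iso ((Scheme.Modules.pullback _).mapIso e) hV⟩

section BaseChange

variable {X Y X' Y' : Scheme.{u}} {f : X ⟶ Y} {f' : X' ⟶ Y'} {a : X' ⟶ X} {b : Y' ⟶ Y}

/-- Ampleness near a point passes to base changes. -/
theorem Near.baseChange (sq : IsPullback a f' f b) {L : X.Modules} (y' : Y') (h : Near f L (b y')) :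
    Near f' ((Scheme.Modules.pullback a).obj L) y' := by
  obtain ⟨V, hy, hV⟩ := h
  refine ⟨b ⁻¹ᵁ V, hy, Amp73.isRelAmple_of_iso
    ((LimTop61.pullbackCompIso a (f' ⁻¹ᵁ (b ⁻¹ᵁ V)).ι rfl).app L).symm ?_⟩
  exact isRelAmple_of_factor (isPullback_morphismRestrict f V).flip
    ((isPullback_morphismRestrict f' (b ⁻¹ᵁ V)).flip.paste_horiz sq) (b ∣_ V)
    (morphismRestrict_ι b V) hV

/-- Ampleness near a point of an open subscheme of the base. -/
theorem Near.of_isOpenImmersion [IsOpenImmersion b] (sq : IsPullback a f' f b) {L : X.Modules} (y' : Y')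
    (h : Near f' ((Scheme.Modules.pullback a).obj L) y') : Near f L (b y') := by
  obtain ⟨V, hy, hV⟩ := h
  let e : (b ''ᵁ V : Scheme.{u}) ⟶ (V : Scheme.{u}) :=
    IsOpenImmersion.lift (V.ι ≫ b) (b ''ᵁ V).ι (by
      rw [Scheme.Opens.range_ι]
      rintro _ ⟨z, hz, rfl⟩
      exact ⟨⟨z, hz⟩, rfl⟩)
  refine ⟨b ''ᵁ V, ⟨y', hy, rfl⟩, ?_⟩
  exact isRelAmple_of_factor ((isPullback_morphismRestrict f' V).flip.paste_horiz sq)
    (isPullback_morphismRestrict f (b ''ᵁ V)).flip e (IsOpenImmersion.lift_fac _ _ _)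
    (Amp73.isRelAmple_of_iso ((LimTop61.pullbackCompIso a (f' ⁻¹ᵁ V).ι rfl).app L) hV)

theorem exists_fibre_map (sq : IsPullback a f' f b) (y' : Y') :
    ∃ m : f'.fiber y' ⟶ f.fiber (b y'), m ≫ f.fiberι (b y') = f'.fiberι y' ≫ a ∧
      IsPullback m (f'.fiberToSpecResidueField y') (f.fiberToSpecResidueField (b y'))
        (Spec.map (b.residueFieldMap y')) :=
  ⟨_, pullback.lift_fst _ _ _, isPullback_fiberToSpecResidueField_of_isPullback sq y'⟩

/-- Ampleness on a fibre passes to the fibres of a base change. -/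
theorem isAmple_fibre_baseChange (sq : IsPullback a f' f b) {L : X.Modules} (y' : Y')
    (h : CohB1.IsAmple ((Scheme.Modules.pullback (f.fiberι (b y'))).obj L)) :
    CohB1.IsAmple ((Scheme.Modules.pullback (f'.fiberι y')).obj ((Scheme.Modules.pullback a).obj L)) := by
  obtain ⟨m, hm, hsq⟩ := exists_fibre_map sq y'
  haveI : IsAffineHom m := MorphismProperty.of_isPullback hsq.flip (isAffineHom_of_isAffine _)
  exact Amp73.isAmple_of_iso ((LimTop61.pullbackCompIso _ m hm).app L ≪≫
    ((LimTop61.pullbackCompIso a (f'.fiberι y') rfl).app L).symm)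
    (Amp73.isAmple_pullback m (Amp73.isQuasiAffine_of_isAffineHom m) h)

/-- Ampleness on a fibre can be checked after an extension of the base. -/
theorem isAmple_fibre_of_baseChange [QuasiCompact f] (sq : IsPullback a f' f b) {L : X.Modules}
    (hL : PicF.IsInvertible L) (y' : Y')
    (h : CohB1.IsAmple ((Scheme.Modules.pullback (f'.fiberι y')).obj ((Scheme.Modules.pullback a).obj L))) :
    CohB1.IsAmple ((Scheme.Modules.pullback (f.fiberι (b y'))).obj L) := by
  obtain ⟨m, hm, hsq⟩ := exists_fibre_map sq y'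
  haveI : Flat (Spec.map (b.residueFieldMap y')) := by
    rw [HasRingHomProperty.Spec_iff (P := @Flat)]
    letI := (b.residueFieldMap y').hom.toAlgebra
    exact RingHom.flat_algebraMap_iff.2 inferInstance
  haveI : Surjective (Spec.map (b.residueFieldMap y')) :=
    ⟨fun z => ⟨IsLocalRing.closedPoint _, Subsingleton.elim (α := PrimeSpectrum _) _ z⟩⟩
  haveI : QuasiCompact (f.fiberToSpecResidueField (b y')) :=
    MorphismProperty.pullback_snd _ _ inferInstance
  exact Desc59.AmpleDesc.isAmple_of_pullback _ hsq (Amp73.isInvertible_pullback _ hL)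
    (Amp73.isAmple_of_iso (((LimTop61.pullbackCompIso a (f'.fiberι y') rfl).app L) ≪≫
      ((LimTop61.pullbackCompIso _ m hm).app L).symm) h)

end BaseChange

theorem near_of_isLocallyNoetherian {X Y : Scheme.{u}} (f : X ⟶ Y) [IsProper f] [IsLocallyNoetherian Y]
    {L : X.Modules} (hL : PicF.IsInvertible L) (y : Y)
    (hy : CohB1.IsAmple ((Scheme.Modules.pullback (f.fiberι y)).obj L)) : Near f L y :=
  (near_iff f L y).2 (exists_opens_isRelAmple f hL y hy)

set_option backward.isDefEq.respectTransparency false in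
theorem exists_noetherian_model {A₁ A : CommRingCat.{u}} [Algebra A₁ A] [IsNoetherianRing A₁] {X X₁ : Scheme.{u}}
    (f₁ : X₁ ⟶ Spec A₁) [IsProper f₁] (f : X ⟶ Spec A) (g : X ⟶ X₁)
    (hg : IsPullback g f f₁ (Spec.map (CommRingCat.ofHom (algebraMap A₁ A))))
    {L : X.Modules} (hL : PicF.IsInvertible L) :
    ∃ (S₀ : Scheme.{u}) (_ : AlgebraicGeometry.IsNoetherian S₀) (X₀ : Scheme.{u}) (f₀ : X₀ ⟶ S₀) (_ : IsProper f₀)
      (π : Spec A ⟶ S₀) (_ : IsAffineHom π) (q : X ⟶ X₀) (_ : IsPullback q f f₀ π) (M : X₀.Modules),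
      PicF.IsInvertible M ∧ Nonempty ((Scheme.Modules.pullback q).obj M ≅ L) := by
  let D := LimTop61.subalgSpec A₁ A
  let c : Cone D := LimTop61.subalgCone A₁ A
  let hc : IsLimit c := LimTop61.isLimitSubalgCone A₁ A
  let i₀ : (LimTop61.FgSubalg A₁ A)ᵒᵖ := Opposite.op ⟨⊥, Subalgebra.fg_bot⟩
  let a₀ : D.obj i₀ ⟶ Spec A₁ :=
    Spec.map (CommRingCat.ofHom (algebraMap A₁ i₀.unop.1))
  let π₀ : Spec A ⟶ D.obj i₀ := c.π.app i₀
  have hπ : π₀ ≫ a₀ = Spec.map (CommRingCat.ofHom (algebraMap A₁ A)) :=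
    (Spec.map_comp _ _).symm.trans rfl
  let f₀ : pullback f₁ a₀ ⟶ D.obj i₀ := pullback.snd f₁ a₀
  haveI : IsProper f₀ := inferInstance
  let q₀ : X ⟶ pullback f₁ a₀ := pullback.lift g (f ≫ π₀) (by rw [Category.assoc, hπ]; exact hg.w)
  have hX₀ : IsPullback q₀ f f₀ π₀ := by
    refine IsPullback.of_right ?_ (pullback.lift_snd _ _ _) (IsPullback.of_hasPullback f₁ a₀)
    rw [pullback.lift_fst, hπ]
    exact hg
  let P := LimTop61.bcDiagram D f₀
  let cP := LimTop61.bcCone D c f₀ q₀ f hX₀.w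
  have hP : IsLimit cP := LimTop61.isLimitBcCone D c hc f₀ _ _ hX₀
  haveI : ∀ k : Over i₀, CompactSpace (P.obj k) := fun k =>
    haveI : CompactSpace (D.obj k.left) := inferInstanceAs (CompactSpace (Spec _))
    QuasiCompact.compactSpace_of_compactSpace (pullback.snd f₀ (D.map k.hom))
  haveI : ∀ k : Over i₀, QuasiSeparatedSpace (P.obj k) := fun k =>
    haveI : QuasiSeparatedSpace (D.obj k.left) := inferInstanceAs (QuasiSeparatedSpace (Spec _))
    haveI : QuasiSeparated (pullback.snd f₀ (D.map k.hom)) :=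
      MorphismProperty.pullback_snd (P := @QuasiSeparated) _ _ inferInstance
    quasiSeparatedSpace_of_quasiSeparated (pullback.snd f₀ (D.map k.hom))
  obtain ⟨k, M, hM, ⟨e⟩⟩ := PicLim95.exists_invertible_stage hP L hL
  let fk : pullback f₀ (D.map k.hom) ⟶ D.obj k.left := pullback.snd f₀ (D.map k.hom)
  haveI : IsProper fk := inferInstance
  let πk : Spec A ⟶ D.obj k.left := c.π.app k.left
  let qk : X ⟶ pullback f₀ (D.map k.hom) :=
    pullback.lift q₀ (f ≫ πk) (by rw [hX₀.w, Category.assoc]; exact congrArg (f ≫ ·) (c.w k.hom).symm)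
  have hqk : cP.π.app k = qk := rfl
  have sq : IsPullback qk f fk πk := by
    refine IsPullback.of_right ?_ (pullback.lift_snd _ _ _) (IsPullback.of_hasPullback f₀ (D.map k.hom))
    rw [pullback.lift_fst]
    exact (c.w k.hom).symm ▸ hX₀
  haveI : IsLocallyNoetherian (D.obj k.left) := by
    haveI : Algebra.FiniteType A₁ k.left.unop.1 := (Subalgebra.fg_iff_finiteType _).1 k.left.unop.2
    haveI : IsNoetherianRing k.left.unop.1 := Algebra.FiniteType.isNoetherianRing A₁ _
    exact inferInstanceAs (IsLocallyNoetherian (Spec (CommRingCat.of k.left.unop.1)))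
  haveI : CompactSpace (D.obj k.left) := inferInstanceAs (CompactSpace (Spec _))
  haveI : IsAffineHom πk := isAffineHom_of_isAffine _
  exact ⟨_, ⟨⟩, _, fk, inferInstance, πk, inferInstance, qk, sq, M, hM, ⟨e⟩⟩

/-- A proper finitely presented family with an invertible module over an affine scheme comes from a
Noetherian one. -/
theorem exists_noetherian_model_affine (A : Type u) [CommRing A] {X : Scheme.{u}}
    (f : X ⟶ Spec (CommRingCat.of A)) [IsProper f] [LocallyOfFinitePresentation f] {L : X.Modules}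
    (hL : PicF.IsInvertible L) :
    ∃ (S₀ : Scheme.{u}) (_ : AlgebraicGeometry.IsNoetherian S₀) (X₀ : Scheme.{u}) (f₀ : X₀ ⟶ S₀) (_ : IsProper f₀)
      (π : Spec (CommRingCat.of A) ⟶ S₀) (_ : IsAffineHom π) (q : X ⟶ X₀) (_ : IsPullback q f f₀ π)
      (M : X₀.Modules), PicF.IsInvertible M ∧ Nonempty ((Scheme.Modules.pullback q).obj M ≅ L) := by
  obtain ⟨A₁, _, _, _, X₁, f₁, _, g, hg⟩ := Hens22.ProperModel.exists_proper_model A f
  letI : Algebra (CommRingCat.of A₁) (CommRingCat.of A) := ‹Algebra A₁ A›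
  haveI : IsNoetherianRing (CommRingCat.of A₁) := ‹IsNoetherianRing A₁›
  exact exists_noetherian_model (A₁ := CommRingCat.of A₁) (A := CommRingCat.of A) f₁ f g hg hL

theorem near_of_isAffine (A : Type u) [CommRing A] {X : Scheme.{u}} (f : X ⟶ Spec (CommRingCat.of A))
    [IsProper f] [LocallyOfFinitePresentation f] {L : X.Modules} (hL : PicF.IsInvertible L)
    (p : Spec (CommRingCat.of A)) (hp : CohB1.IsAmple ((Scheme.Modules.pullback (f.fiberι p)).obj L)) :
    Near f L p := by
  obtain ⟨S₀, _, X₀, f₀, _, π, _, q, sq, M, hM, ⟨e⟩⟩ := exists_noetherian_model_affine A f hL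
  exact ((near_of_isLocallyNoetherian f₀ hM _ (isAmple_fibre_of_baseChange sq hM p
    (Amp73.isAmple_of_iso ((Scheme.Modules.pullback _).mapIso e.symm) hp))).baseChange sq p).of_iso e

/-- An invertible module ample on a fibre of a proper morphism of finite presentation is relatively
ample over a neighbourhood of the point. -/
theorem near_of_isAmple_fibre {X Y : Scheme.{u}} (f : X ⟶ Y) [IsProper f] [LocallyOfFinitePresentation f]
    {L : X.Modules} (hL : PicF.IsInvertible L) (y : Y)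
    (hy : CohB1.IsAmple ((Scheme.Modules.pullback (f.fiberι y)).obj L)) : Near f L y := by
  obtain ⟨W, hW, hyW, -⟩ := exists_isAffineOpen_mem_and_subset (U := (⊤ : Y.Opens)) (x := y) trivial
  let b : Spec Γ(Y, W) ⟶ Y := hW.fromSpec
  obtain ⟨p, rfl⟩ : ∃ p, b p = y := by
    have : y ∈ Set.range b := by rw [hW.range_fromSpec]; exact hyW
    exact this
  let f' : pullback f b ⟶ Spec (CommRingCat.of Γ(Y, W)) := pullback.snd f b
  haveI : IsProper f' := inferInstanceAs (IsProper (pullback.snd f b))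
  haveI : LocallyOfFinitePresentation f' := inferInstanceAs (LocallyOfFinitePresentation (pullback.snd f b))
  exact Near.of_isOpenImmersion (IsPullback.of_hasPullback f b) p (near_of_isAffine _ f'
    (Amp73.isInvertible_pullback _ hL) p (isAmple_fibre_baseChange (IsPullback.of_hasPullback f b) p hy))

/-- Relative ampleness is local on the base. -/
theorem isRelAmple_of_near {X Y : Scheme.{u}} (f : X ⟶ Y) [QuasiCompact f] {L : X.Modules}
    (h : ∀ y, Near f L y) : RelAmple.IsRelAmple f L := by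
  refine Amp73.isRelAmple_of_cover f fun y => ?_
  obtain ⟨V, hyV, hV⟩ := h y
  obtain ⟨W, hW, hyW, hWV⟩ := exists_isAffineOpen_mem_and_subset (U := V) (x := y) hyV
  haveI : IsAffine (W : Scheme.{u}) := hW
  exact ⟨⟨W, hW⟩, hyW, (Amp73.isRelAmple_iff_isAmple (f ∣_ W)).1 (Amp73.isRelAmple_of_iso
    ((Scheme.Modules.restrictFunctorIsoPullback _).app L).symm
    (isRelAmple_of_factor (isPullback_morphismRestrict f V).flip (isPullback_morphismRestrict f W).flip
      (Y.homOfLE hWV) (Y.homOfLE_ι hWV) hV))⟩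

/-- The fibres of a relatively ample module are ample. -/
theorem isAmple_fibre {X Y : Scheme.{u}} (f : X ⟶ Y) {L : X.Modules} (h : RelAmple.IsRelAmple f L) (y : Y) :
    CohB1.IsAmple ((Scheme.Modules.pullback (f.fiberι y)).obj L) :=
  haveI := h.1
  haveI : QuasiCompact (f.fiberToSpecResidueField y) := MorphismProperty.pullback_snd _ _ inferInstance
  (Amp73.isRelAmple_iff_isAmple (f.fiberToSpecResidueField y)).1
    (Amp73.isRelAmple_baseChange f (Y.fromSpecResidueField y) h)

end Groth.Agent.FBase64.AmpFib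

end
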