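import Groth.Agent.FBase64.AmpFib.Spread
import Groth.Agent.Approx60.ProperLimit

/-! An invertible module ample on a fibre of a proper morphism is relatively ample near it. -/

set_option autoImplicit false
set_option backward.isDefEq.respectTransparency.types false
set_option linter.style.haveILetI false
set_option maxHeartbeats 1000000

universe u

open CategoryTheory CategoryTheory.Limits AlgebraicGeometry TopologicalSpace

noncomputable section

namespace Groth.Agent.FBase64.AmpFib

/-- Ampleness near a point passes to affine morphisms to the total space. -/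
theorem Near.comp {X X' Y : Scheme.{u}} {f : X ⟶ Y} (g : X' ⟶ X) [IsAffineHom g] {L : X.Modules} {y : Y}
    (h : Near f L y) : Near (g ≫ f) ((Scheme.Modules.pullback g).obj L) y := by
  obtain ⟨V, hy, hV⟩ := h
  refine ⟨V, hy, ?_⟩
  haveI : IsAffineHom (g ∣_ (f ⁻¹ᵁ V)) := IsZariskiLocalAtTarget.restrict (P := @IsAffineHom) ‹_› _
  have h1 := Amp73.isRelAmple_pullback_comp (g ∣_ (f ⁻¹ᵁ V)) (Amp73.isQuasiAffine_of_isAffineHom _) hV
  rw [morphismRestrict_comp]
  exact Amp73.isRelAmple_of_iso ((LimTop61.pullbackCompIso (f ⁻¹ᵁ V).ι (g ∣_ (f ⁻¹ᵁ V))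
    (morphismRestrict_ι g (f ⁻¹ᵁ V))).app L ≪≫ ((LimTop61.pullbackCompIso g _ rfl).app L).symm) h1

/-- The fibre of a composite is the base change of the fibre. -/
theorem exists_fibre_lift {X' X Y : Scheme.{u}} (g : X' ⟶ X) (f : X ⟶ Y) {f' : X' ⟶ Y} (hf : g ≫ f = f')
    (y : Y) : ∃ q : f'.fiber y ⟶ f.fiber y, IsPullback q (f'.fiberι y) (f.fiberι y) g := by
  subst hf
  let q : (g ≫ f).fiber y ⟶ f.fiber y := pullback.lift ((g ≫ f).fiberι y ≫ g)
    ((g ≫ f).fiberToSpecResidueField y) (by rw [Category.assoc]; exact pullback.condition)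
  have hq : q ≫ f.fiberToSpecResidueField y = (g ≫ f).fiberToSpecResidueField y := pullback.lift_snd _ _ _
  have big : IsPullback ((g ≫ f).fiberι y) (q ≫ f.fiberToSpecResidueField y) (g ≫ f)
      (Y.fromSpecResidueField y) := by
    rw [hq]
    exact IsPullback.of_hasPullback _ _
  exact ⟨q, (IsPullback.of_bot big (pullback.lift_fst _ _ _).symm
    (IsPullback.of_hasPullback f (Y.fromSpecResidueField y))).flip⟩

set_option maxHeartbeats 2000000 in
set_option backward.isDefEq.respectTransparency false in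
theorem near_of_isAffine' {Y X : Scheme.{u}} [IsAffine Y] (f : X ⟶ Y) [IsProper f] {L : X.Modules}
    (hL : PicF.IsInvertible L) (y : Y)
    (hy : CohB1.IsAmple ((Scheme.Modules.pullback (f.fiberι y)).obj L)) : Near f L y := by
  obtain ⟨I, _, _, D, c, hc₀, e, hmap, hπ⟩ := Approx60.exists_proper_fp_closed_limit f
  haveI : IsConnected I := IsCofiltered.isConnected _
  let E := D ⋙ Over.forget Y
  let cE : Cone E := (Over.forget Y).mapCone c
  let hc : IsLimit cE := isLimitOfPreserves _ hc₀
  haveI : ∀ {i j : I} (a : i ⟶ j), IsClosedImmersion (E.map a) := fun {i j} a => hmap i j a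
  haveI : ∀ {i j : I} (a : i ⟶ j), IsAffineHom (E.map a) := fun a => inferInstance
  let fc : cE.pt ⟶ Y := c.pt.hom
  let em : cE.pt ⟶ X := e.hom.left
  let ei : X ⟶ cE.pt := e.inv.left
  haveI : IsIso em := inferInstanceAs (IsIso ((Over.forget Y).map e.hom))
  haveI : IsIso ei := inferInstanceAs (IsIso ((Over.forget Y).map e.inv))
  have hem : em ≫ f = fc := Over.w e.hom
  have hei : ei ≫ fc = f := Over.w e.inv
  have hie : ei ≫ em = 𝟙 X := congrArg CommaMorphism.left e.inv_hom_id
  haveI hp : ∀ i, IsProper (D.obj i).hom := fun i => (hπ i).2.1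
  haveI : ∀ i, LocallyOfFinitePresentation (D.obj i).hom := fun i => (hπ i).2.2
  haveI : ∀ i, CompactSpace (E.obj i) := fun i => QuasiCompact.compactSpace_of_compactSpace (D.obj i).hom
  haveI : ∀ i, QuasiSeparatedSpace (E.obj i) := fun i => quasiSeparatedSpace_of_quasiSeparated (D.obj i).hom
  let L' := (Scheme.Modules.pullback em).obj L
  obtain ⟨i, M, hM, ⟨φM⟩⟩ := PicLim95.exists_invertible_stage hc L' (Amp73.isInvertible_pullback _ hL)
  let t : E.obj i ⟶ Y := (D.obj i).hom
  let πi : cE.pt ⟶ E.obj i := cE.π.app i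
  have hti : πi ≫ t = fc := Over.w (c.π.app i)
  obtain ⟨q, sq⟩ := exists_fibre_lift πi t hti y
  obtain ⟨q₀, sq₀⟩ := exists_fibre_lift em f hem y
  let P := LimTop61.bcDiagram E (t.fiberι y)
  let cP := LimTop61.bcCone E cE (t.fiberι y) q (fc.fiberι y) sq.w
  have hP : IsLimit cP := LimTop61.isLimitBcCone E cE hc (t.fiberι y) _ _ sq
  haveI : QuasiCompact (t.fiberToSpecResidueField y) := MorphismProperty.pullback_snd _ _ inferInstance
  haveI : QuasiSeparated (t.fiberToSpecResidueField y) :=
    MorphismProperty.pullback_snd (P := @QuasiSeparated) _ _ inferInstance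
  haveI : CompactSpace (t.fiber y) :=
    QuasiCompact.compactSpace_of_compactSpace (t.fiberToSpecResidueField y)
  haveI : QuasiSeparatedSpace (t.fiber y) :=
    quasiSeparatedSpace_of_quasiSeparated (t.fiberToSpecResidueField y)
  haveI hPm : ∀ k : Over i, IsAffineHom (pullback.fst (t.fiberι y) (E.map k.hom)) := fun k =>
    MorphismProperty.pullback_fst (P := @IsAffineHom) _ _ inferInstance
  haveI : ∀ k : Over i, CompactSpace (P.obj k) := fun k =>
    QuasiCompact.compactSpace_of_compactSpace (pullback.fst (t.fiberι y) (E.map k.hom))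
  haveI : ∀ k : Over i, QuasiSeparatedSpace (P.obj k) := fun k =>
    quasiSeparatedSpace_of_quasiSeparated (pullback.fst (t.fiberι y) (E.map k.hom))
  let o : Over i := Over.mk (𝟙 i)
  let M₀ := (Scheme.Modules.pullback (pullback.snd (t.fiberι y) (E.map o.hom))).obj
    ((Scheme.Modules.pullback (E.map o.hom)).obj M)
  have hM₀ : PicF.IsInvertible M₀ := Amp73.isInvertible_pullback _ (Amp73.isInvertible_pullback _ hM)
  have hamp : CohB1.IsAmple ((Scheme.Modules.pullback (cP.π.app o)).obj M₀) := by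
    haveI : IsAffineHom q₀ := MorphismProperty.of_isPullback sq₀.flip inferInstance
    have h1 := Amp73.isAmple_pullback q₀ (Amp73.isQuasiAffine_of_isAffineHom q₀) hy
    refine Amp73.isAmple_of_iso ?_ h1
    have hh : (cP.π.app o ≫ pullback.snd (t.fiberι y) (E.map o.hom)) ≫ E.map o.hom = fc.fiberι y ≫ πi := by
      simp [cP, o, E, πi]
    exact (LimTop61.pullbackCompIso (f.fiberι y) q₀ sq₀.w).app L ≪≫
      ((LimTop61.pullbackCompIso em (fc.fiberι y) rfl).app L).symm ≪≫
      (Scheme.Modules.pullback (fc.fiberι y)).mapIso φM.symm ≪≫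
      (LimTop61.pullbackCompIso πi (fc.fiberι y) hh.symm).app M ≪≫
      ((LimTop61.pullbackCompIso (E.map o.hom) (cP.π.app o ≫ pullback.snd (t.fiberι y) (E.map o.hom)) rfl).app M).symm ≪≫
      ((LimTop61.pullbackCompIso (pullback.snd (t.fiberι y) (E.map o.hom)) (cP.π.app o) rfl).app
        ((Scheme.Modules.pullback (E.map o.hom)).obj M)).symm
  obtain ⟨k, ψ, hk⟩ := LimTop61.exists_isAmple_stage hP hM₀ hamp
  let tk : E.obj k.left ⟶ Y := (D.obj k.left).hom
  obtain ⟨qk, sqk⟩ := exists_fibre_lift (E.map k.hom) t (f' := tk) (Over.w (D.map k.hom)) y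
  let Mk := (Scheme.Modules.pullback (E.map k.hom)).obj M
  let u : tk.fiber y ⟶ P.obj k := sqk.isoPullback.hom
  have hu : u ≫ P.map ψ ≫ pullback.snd (t.fiberι y) (E.map o.hom) ≫ E.map o.hom =
      tk.fiberι y ≫ E.map k.hom := by
    have h1 : P.map ψ ≫ pullback.snd (t.fiberι y) (E.map o.hom) ≫ E.map o.hom =
        pullback.snd (t.fiberι y) (E.map k.hom) ≫ E.map k.hom := by
      have hw : E.map ψ.left ≫ E.map o.hom = E.map k.hom := by rw [← E.map_comp, Over.w ψ]
      simp [P, hw]
    rw [h1, ← Category.assoc, sqk.isoPullback_hom_snd]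
  have hampk : CohB1.IsAmple ((Scheme.Modules.pullback (tk.fiberι y)).obj Mk) := by
    haveI : IsAffineHom u := inferInstance
    have h1 := Amp73.isAmple_pullback u (Amp73.isQuasiAffine_of_isAffineHom u) hk
    refine Amp73.isAmple_of_iso ?_ h1
    exact (LimTop61.pullbackCompIso (P.map ψ) u rfl).app M₀ ≪≫
      (LimTop61.pullbackCompIso (pullback.snd (t.fiberι y) (E.map o.hom)) (u ≫ P.map ψ) rfl).app _ ≪≫
      (LimTop61.pullbackCompIso (E.map o.hom) _ (by simpa using hu)).app M ≪≫
      ((LimTop61.pullbackCompIso (E.map k.hom) (tk.fiberι y) rfl).app M).symm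
  let πk : cE.pt ⟶ E.obj k.left := cE.π.app k.left
  haveI : IsClosedImmersion πk := (hπ k.left).1
  have h3 := ((near_of_isAmple_fibre tk (Amp73.isInvertible_pullback _ hM) y hampk).comp πk).of_iso
    ((LimTop61.pullbackCompIso (E.map k.hom) πk (cE.w k.hom)).app M ≪≫ φM)
  rw [show πk ≫ tk = fc from Over.w (c.π.app k.left)] at h3
  have h4 := (h3.comp ei).of_iso ((LimTop61.pullbackCompIso em ei hie).app L ≪≫
    (Scheme.Modules.pullbackId X).app L)
  rwa [hei] at h4

/-- An invertible module ample on a fibre of a proper morphism is relatively ample over a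
neighbourhood of the point. -/
theorem near_of_isAmple_fibre_of_isProper {X Y : Scheme.{u}} (f : X ⟶ Y) [IsProper f] {L : X.Modules}
    (hL : PicF.IsInvertible L) (y : Y)
    (hy : CohB1.IsAmple ((Scheme.Modules.pullback (f.fiberι y)).obj L)) : Near f L y := by
  obtain ⟨W, hW, hyW, -⟩ := exists_isAffineOpen_mem_and_subset (U := (⊤ : Y.Opens)) (x := y) trivial
  haveI : IsAffine (W : Scheme.{u}) := hW
  obtain ⟨p, rfl⟩ : ∃ p, W.ι p = y := ⟨⟨y, hyW⟩, rfl⟩
  let f' : (f ⁻¹ᵁ W : Scheme.{u}) ⟶ W := f ∣_ W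
  haveI : IsProper f' := IsZariskiLocalAtTarget.restrict ‹IsProper f› W
  exact Near.of_isOpenImmersion (isPullback_morphismRestrict f W).flip p
    (near_of_isAffine' f' (Amp73.isInvertible_pullback _ hL) p
      (isAmple_fibre_baseChange (isPullback_morphismRestrict f W).flip p hy))

end Groth.Agent.FBase64.AmpFib

end
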