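import Groth.Agent.RB70.ThickGen
import Groth.Agent.RB70.GrSys
import Groth.Agent.RB70.FibreMod
import Groth.Agent.RB70.ModPowTensor
import Groth.Agent.Serre71.Finite
import Groth.Agent.Formal27.SmulMod
import Groth.Agent.Univ70.Sect
import Groth.Agent.ConsProp93.Locus
import Mathlib.RingTheory.Nakayama

/-! Vanishing of high twists over a local base by an invertible module ample on the closed fibre. -/

set_option autoImplicit false
set_option backward.isDefEq.respectTransparency.types false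
set_option linter.style.haveILetI false
set_option maxHeartbeats 1000000
set_option synthInstance.maxHeartbeats 200000

universe u

open CategoryTheory CategoryTheory.Limits AlgebraicGeometry Opposite TopologicalSpace

noncomputable section

namespace Groth.Agent.FBase64.AmpFib

open Groth.Agent.Formal27

variable {A : Type u} [CommRing A] {X : Scheme.{u}} [X.Over (Spec (CommRingCat.of A))]

theorem hmap_smulMod (M : X.Modules) (n : ℕ) (a : A) (x : Coh.HH X M n) :
    Crv77.hmap A (Formal.smulMod A M a) n x = a • x := rfl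

theorem smulMod_eq_zero_of_mem_sup {I : Ideal A} {t : A} {K : X.Modules}
    (h : ∀ a ∈ I, Formal.smulMod A K a = 0) (ht : Formal.smulMod A K t = 0) :
    ∀ a ∈ I ⊔ Ideal.span {t}, Formal.smulMod A K a = 0 := by
  intro a ha
  obtain ⟨b, hb, c, hc, rfl⟩ := Submodule.mem_sup.1 ha
  obtain ⟨r, rfl⟩ := Ideal.mem_span_singleton'.1 hc
  rw [smulMod_add, h b hb, smulMod_mul, ht, zero_comp, add_zero]

theorem tensor_smulMod (F P : X.Modules) (a : A) :
    (DCoh.tensorRightMod P).map (Formal.smulMod A F a) =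
      Formal.smulMod A ((DCoh.tensorRightMod P).obj F) a :=
  Univ70.tensorRightMod_map_smulΓ P F _

variable [IsNoetherianRing A] [IsProper (X ↘ Spec (CommRingCat.of A))]

/-- The inductive step: vanishing for the kernel and cokernel of `t` gives vanishing. -/
theorem subsingleton_of_smul {m : Ideal A} (hm : m ≤ Ideal.jacobson ⊥) {F P : X.Modules} (hF : Coh.IsCoh F)
    (hP : PicF.IsInvertible P) {t : A} (ht : t ∈ m) (q : ℕ)
    (h1 : Subsingleton (Coh.HH X (CohB1.tensorMod (kernel (Formal.smulMod A F t)) P) (q + 1)))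
    (h2 : Subsingleton (Coh.HH X (CohB1.tensorMod (cokernel (Formal.smulMod A F t)) P) q)) :
    Subsingleton (Coh.HH X (CohB1.tensorMod F P) q) := by
  let s := Formal.smulMod A F t
  let Φ := DCoh.tensorRightMod (X := X) P
  have hflat := Crv77.locally_flat_of_rank_one (Mero90.isFinLocFreeOfRank_of_isInvertible hP)
  obtain ⟨w₁, hs₁⟩ := RB70.shortExact_factorThruImage (kernel.ι s) s (kernel.condition _) (kernelIsKernel _)
  obtain ⟨w₂, hs₂⟩ := RB70.shortExact_imageι s (cokernel.π s) (cokernel.condition _) (cokernelIsCokernel _)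
  have hT₁ : ((ShortComplex.mk (kernel.ι s) (Abelian.factorThruImage s) w₁).map Φ).ShortExact :=
    Crv77.shortExact_tR_of_locally_flat (O := X.sheaf) P hflat hs₁
  have hT₂ : ((ShortComplex.mk (Abelian.image.ι s) (cokernel.π s) w₂).map Φ).ShortExact :=
    Crv77.shortExact_tR_of_locally_flat (O := X.sheaf) P hflat hs₂
  have hsurj : ∀ y : Coh.HH X (CohB1.tensorMod F P) q, ∃ x, t • x = y := by
    intro y
    obtain ⟨z, rfl⟩ := (Crv77.exact_f_g A hT₂ q y).1 (@Subsingleton.elim _ h2 _ _)
    obtain ⟨x, rfl⟩ := (Crv77.exact_g_δ A hT₁ q z).1 (@Subsingleton.elim _ h1 _ _)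
    refine ⟨x, (hmap_smulMod _ q t x).symm.trans ?_⟩
    refine Eq.trans ?_ (Crv77.hmap_comp A _ _ q x).symm
    congr 2
    show Formal.smulMod A (Φ.obj F) t = Φ.map (Abelian.factorThruImage s) ≫ Φ.map (Abelian.image.ι s)
    rw [← Φ.map_comp, Abelian.image.fac]
    exact (tensor_smulMod F P t).symm
  haveI : Module.Finite A (Coh.HH X (CohB1.tensorMod F P) q) :=
    Serre71.finite_hh_of_isProper A _ (Amp73.isCoh_tensorMod hF (CD47.isCoh_of_isFinLocFree
      fun x => ((Mero90.isFinLocFreeOfRank_of_isInvertible hP) x).imp fun U hU => ⟨1, hU⟩)) q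
  have htop := Submodule.eq_bot_of_le_smul_of_le_jacobson_bot m
    (⊤ : Submodule A (Coh.HH X (CohB1.tensorMod F P) q)) Module.Finite.fg_top (fun y _ => by
      obtain ⟨x, rfl⟩ := hsurj y
      exact Submodule.smul_mem_smul ht trivial) hm
  exact subsingleton_of_forall_eq 0 fun y => (Submodule.eq_bot_iff _).1 htop y trivial

/-- Vanishing for modules killed by `m`. -/
theorem exists_vanishing_killed (m : Ideal A) {X' : Scheme.{u}} [X'.Over (Spec (CommRingCat.of (A ⧸ m)))]
    {g : X' ⟶ X} (hsq : IsPullback g (X' ↘ Spec (CommRingCat.of (A ⧸ m))) (X ↘ Spec (CommRingCat.of A))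
      (Spec.map (CommRingCat.ofHom (algebraMap A (A ⧸ m)))))
    {L : X.Modules} (hL : PicF.IsInvertible L) (ha : CohB1.IsAmple ((Scheme.Modules.pullback g).obj L))
    (F : X.Modules) (hF : Coh.IsCoh F) (hk : ∀ a ∈ m, Formal.smulMod A F a = 0) :
    ∃ n₀ : ℕ, ∀ n, n₀ ≤ n → ∀ q : ℕ, 1 ≤ q →
      Subsingleton (Coh.HH X (CohB1.tensorMod F (CohB1.tensorPow L n)) q) := by
  haveI : F.IsQuasicoherent := hF.1
  haveI : IsProper (X' ↘ Spec (CommRingCat.of (A ⧸ m))) :=
    MorphismProperty.of_isPullback hsq inferInstance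
  haveI : IsClosedImmersion g := MorphismProperty.of_isPullback hsq.flip
    (IsClosedImmersion.spec_of_surjective _ Ideal.Quotient.mk_surjective)
  let G := (Scheme.Modules.pullback g).obj F
  have hG : Coh.IsCoh G := ConsProp93.isCoh_pullback g hF
  have hz : Formal.smulFamily (m ^ 1) F = 0 := Sigma.hom_ext _ _ fun a => by
    rw [Formal.smulFamily, Sigma.ι_desc, comp_zero]
    exact hk a.1 (by simpa using a.2)
  haveI : IsIso (Formal.modPowπ m 1 F) := by
    show IsIso (cokernel.π (Formal.smulFamily (m ^ 1) F))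
    generalize Formal.smulFamily (m ^ 1) F = φ at hz
    subst hz
    exact cokernel.π_zero_isIso
  haveI := RB70.isIso_fromModPow F m 1
  let q₁ : RB70.quotA m 1 ≅ ModuleCat.of A (A ⧸ m) :=
    (Submodule.quotEquivOfEq _ _ (pow_one m)).toModuleIso
  obtain ⟨e, -⟩ := RB70.exists_iso_tA_push hsq F
  let e' : F ≅ (Scheme.Modules.pushforward g).obj G :=
    asIso (Formal.modPowπ m 1 F) ≪≫ asIso (RB70.fromModPow F m 1) ≪≫
      (CohIII.tensorAFunctor A F).mapIso q₁ ≪≫ e
  obtain ⟨n₀, hn₀⟩ := RB70.exists_vanishing_ample (X' ↘ Spec (CommRingCat.of (A ⧸ m))) ha G hG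
  refine ⟨n₀, fun n hn q hq => ?_⟩
  obtain ⟨p⟩ := RB70.nonempty_push_twist g G hL (Iso.refl _) n
  haveI := (Amp73.isCoh_tensorMod hG (CD47.isCoh_of_isFinLocFree fun x =>
    ((Mero90.isFinLocFreeOfRank_of_isInvertible (EGA73.isInvertible_tensorPow ha.1 n)) x).imp
      fun U hU => ⟨1, hU⟩)).1
  exact ValVan29.subsingleton_hh_of_iso (p ≪≫ (EGA73.tensIso e' (Iso.refl _)).symm) q
    (RB70.subsingleton_hh_push g _ q (hn₀ n hn q hq))

/-- Vanishing over a base ideal contained in the Jacobson radical, from ampleness on its fibre. -/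
theorem exists_vanishing {m : Ideal A} (hm : m ≤ Ideal.jacobson ⊥) {X' : Scheme.{u}}
    [X'.Over (Spec (CommRingCat.of (A ⧸ m)))]
    {g : X' ⟶ X} (hsq : IsPullback g (X' ↘ Spec (CommRingCat.of (A ⧸ m))) (X ↘ Spec (CommRingCat.of A))
      (Spec.map (CommRingCat.ofHom (algebraMap A (A ⧸ m)))))
    {L : X.Modules} (hL : PicF.IsInvertible L) (ha : CohB1.IsAmple ((Scheme.Modules.pullback g).obj L))
    (F : X.Modules) (hF : Coh.IsCoh F) :
    ∃ n₀ : ℕ, ∀ n, n₀ ≤ n → ∀ q : ℕ, 1 ≤ q →
      Subsingleton (Coh.HH X (CohB1.tensorMod F (CohB1.tensorPow L n)) q) := by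
  haveI : IsLocallyNoetherian X := LocallyOfFiniteType.isLocallyNoetherian (X ↘ Spec (CommRingCat.of A))
  suffices h : ∀ I : Ideal A, ∀ F : X.Modules, Coh.IsCoh F → (∀ a ∈ I, Formal.smulMod A F a = 0) →
      ∃ n₀ : ℕ, ∀ n, n₀ ≤ n → ∀ q : ℕ, 1 ≤ q →
        Subsingleton (Coh.HH X (CohB1.tensorMod F (CohB1.tensorPow L n)) q) from
    h ⊥ F hF fun a ha => by rw [(Ideal.mem_bot).1 ha, smulMod_zero]
  intro I
  induction I using WellFoundedGT.induction with
  | ind I ih =>
    intro F hF hI
    by_cases hmI : m ≤ I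
    · exact exists_vanishing_killed m hsq hL ha F hF fun a ha => hI a (hmI ha)
    · obtain ⟨t, htm, htI⟩ := SetLike.not_le_iff_exists.1 hmI
      have hlt : I < I ⊔ Ideal.span {t} :=
        left_lt_sup.2 fun h => htI (h (Ideal.mem_span_singleton_self t))
      let s := Formal.smulMod A F t
      obtain ⟨hK, hC⟩ := S9514.result X hF hF s
      obtain ⟨a, ha'⟩ := ih _ hlt (kernel s) hK (smulMod_eq_zero_of_mem_sup
        (fun b hb => by rw [← cancel_mono (kernel.ι s), ← smulMod_comp, hI b hb, comp_zero, zero_comp])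
        (by rw [← cancel_mono (kernel.ι s), ← smulMod_comp, kernel.condition, zero_comp]))
      obtain ⟨b, hb'⟩ := ih _ hlt (cokernel s) hC (smulMod_eq_zero_of_mem_sup
        (fun b hb => by rw [← cancel_epi (cokernel.π s), smulMod_comp, hI b hb, zero_comp, comp_zero])
        (by rw [← cancel_epi (cokernel.π s), smulMod_comp, cokernel.condition, comp_zero]))
      exact ⟨max a b, fun n hn q hq => subsingleton_of_smul hm hF (EGA73.isInvertible_tensorPow hL n) htm q
        (ha' n (by omega) (q + 1) (by omega)) (hb' n (by omega) q hq)⟩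

end Groth.Agent.FBase64.AmpFib

end
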